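import Groth.Agent.KDet28.DetSES
import Groth.Agent.EulerLib.InvClass
import Groth.Agent.PicLib.FiniteSetTriv
import Groth.Agent.VarietyLib.Dual

/-!
# The determinant as a homomorphism from the Grothendieck group to the Picard group
-/

set_option autoImplicit false
set_option linter.style.haveILetI false
set_option backward.isDefEq.respectTransparency.types false
set_option maxHeartbeats 1000000

universe u

open CategoryTheory CategoryTheory.Limits AlgebraicGeometry
open Groth.Agent.Coherent Groth.Agent.EulerLib Groth.Agent.PicLib Groth.Agent.AmpleLib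

noncomputable section

namespace Groth.Agent.KDet28

variable {X : Scheme.{u}}

theorem isUnit_mk {L : X.Modules} (hL : PicF.IsInvertible L) : IsUnit (InvCl.mk L hL) := by
  obtain ⟨M, hM⟩ := VarietyLib.exists_isInverseOf hL
  obtain ⟨e⟩ := hM
  have hM' : PicF.IsInvertible M :=
    MorProj.isInvertible_of_tensor_iso (AmpleLib.tensorComm M _ ≪≫ e)
  exact IsUnit.of_mul_eq_one (InvCl.mk M hM')
    ((InvCl.mk_mul hL hM').trans (InvCl.mk_eq _ isInvertible_structureModule e))

/-- The determinant `K(X) → Pic(X)`. -/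
theorem exists_detHom (X : Scheme.{u}) [ConnectedSpace ↥X] :
    ∃ D : SGA6.Kvb X →+ Additive ((InvCl X)ˣ), ∀ (n : ℕ) (E L : X.Modules) (_ : FlatMod.IsFinLocFreeOfRank n E)
      (_ : ExtPow.IsExtPow n E L) (hL : PicF.IsInvertible L),
      ((Additive.toMul (D (KRR.cl X E)) : (InvCl X)ˣ) : InvCl X) = InvCl.mk L hL := by
  classical
  have hdet : ∀ E : X.Modules, ∃ c : Additive ((InvCl X)ˣ), ∀ (n : ℕ) (L : X.Modules),
      FlatMod.IsFinLocFreeOfRank n E → ExtPow.IsExtPow n E L → ∀ hL : PicF.IsInvertible L,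
      ((Additive.toMul c : (InvCl X)ˣ) : InvCl X) = InvCl.mk L hL := fun E => by
    by_cases h : FlatMod.IsFinLocFree E
    · obtain ⟨n, hn⟩ := KModel28.exists_rank h
      obtain ⟨L, -, hp⟩ := ExtPowEx28.exists_isExtPow h n
      have hL := Canon15.isInvertible_of_isExtPow hn hp
      refine ⟨Additive.ofMul (isUnit_mk hL).unit, fun m L' hm hp' hL' => ?_⟩
      obtain rfl := KModel28.rank_unique hn hm
      obtain ⟨e⟩ := KvbLam28.exists_iso_of_isExtPow hp hp'
      exact InvCl.mk_eq hL hL' e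
    · exact ⟨0, fun n L hn => absurd (VarietyLib.isFinLocFree_of_rank hn) h⟩
  choose f hf using hdet
  obtain ⟨D, hD⟩ := KvbLam28.exists_lift (G := Additive ((InvCl X)ˣ)) f fun S hS h₁ h₂ h₃ => by
    obtain ⟨a, ha⟩ := KModel28.exists_rank h₁
    obtain ⟨b, hb⟩ := KModel28.exists_rank h₂
    obtain ⟨c, hc⟩ := KModel28.exists_rank h₃
    obtain ⟨x⟩ := (inferInstance : Nonempty X)
    obtain rfl : b = a + c := VarietyLib.rank_add hS ha hb hc x
    obtain ⟨A, -, hA⟩ := ExtPowEx28.exists_isExtPow h₁ a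
    obtain ⟨B, -, hB⟩ := ExtPowEx28.exists_isExtPow h₂ (a + c)
    obtain ⟨C, -, hC⟩ := ExtPowEx28.exists_isExtPow h₃ c
    have iA := Canon15.isInvertible_of_isExtPow ha hA
    have iB := Canon15.isInvertible_of_isExtPow hb hB
    have iC := Canon15.isInvertible_of_isExtPow hc hC
    obtain ⟨e⟩ := nonempty_det_ses hS ha hc hA hB hC
    apply Additive.toMul.injective
    refine Units.ext ?_
    rw [toMul_add, Units.val_mul, hf _ _ _ hb hB iB, hf _ _ _ ha hA iA, hf _ _ _ hc hC iC, InvCl.mk_mul iA iC]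
    exact InvCl.mk_eq _ _ e
  exact ⟨D, fun n E L hn hp hL =>
    (congrArg (fun c : Additive ((InvCl X)ˣ) => ((Additive.toMul c : (InvCl X)ˣ) : InvCl X))
      (hD E (VarietyLib.isFinLocFree_of_rank hn))).trans (hf E n L hn hp hL)⟩

/-- An invertible module is determined by its class in `K(X)`. -/
theorem nonempty_iso_of_cl_eq [ConnectedSpace ↥X] {L L' : X.Modules} (hL : PicF.IsInvertible L)
    (hL' : PicF.IsInvertible L') (h : KRR.cl X L = KRR.cl X L') : Nonempty (L ≅ L') := by
  obtain ⟨D, hD⟩ := exists_detHom X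
  have h1 := hD 1 L L (PicLib.isFinLocFreeOfRank_one hL) (KvbLam28.isExtPow_one L) hL
  have h2 := hD 1 L' L' (PicLib.isFinLocFreeOfRank_one hL') (KvbLam28.isExtPow_one L') hL'
  rw [h, h2] at h1
  exact (Quotient.exact h1).map fun e => e.symm

end Groth.Agent.KDet28
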